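import Mathlib.RingTheory.PolynomialLaw.Basic
import Mathlib.RingTheory.TensorProduct.Maps
import Mathlib.FieldTheory.SeparableClosure
import Mathlib.FieldTheory.SeparableDegree
import Mathlib.FieldTheory.PurelyInseparable.PerfectClosure
import Mathlib.FieldTheory.IsAlgClosed.AlgebraicClosure
import Mathlib.RingTheory.Trace.Basic
import Mathlib.LinearAlgebra.Matrix.ToLin
import Mathlib.Algebra.CharP.Reduced
import Mathlib.Algebra.MvPolynomial.Funext
import Mathlib.RingTheory.Flat.Basic

/-! Multiplicative homogeneous polynomial laws on a finite field extension. -/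

set_option autoImplicit false
set_option maxHeartbeats 1000000
set_option synthInstance.maxHeartbeats 200000
set_option maxSynthPendingDepth 3
set_option linter.style.haveILetI false
set_option linter.overlappingInstances false

universe u

open scoped TensorProduct

namespace Groth.FieldLaw

variable {k : Type u} [Field k] {K : Type u} [Field K] [Algebra k K]

/-- The conditions on a law. -/
def IsML (F : K →ₚₗ[k] k) (d : ℕ) : Prop :=
  (∀ (S : Type u) [CommRing S] [Algebra k S], F.toFun' S 1 = 1 ∧
    ∀ x y : S ⊗[k] K, F.toFun' S (x * y) = F.toFun' S x * F.toFun' S y) ∧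
  ∀ (S : Type u) [CommRing S] [Algebra k S] (a : S) (z : S ⊗[k] K),
    F.toFun' S (a • z) = a ^ d • F.toFun' S z

section Val

variable (F : K →ₚₗ[k] k) {d : ℕ} (hF : IsML F d)

/-- The value of a law in `S`. -/
noncomputable def val (S : Type u) [CommSemiring S] [Algebra k S] (z : S ⊗[k] K) : S :=
  TensorProduct.rid k S (F.toFun' S z)

theorem val_natural {S : Type u} [CommSemiring S] [Algebra k S] {S' : Type u} [CommSemiring S']
    [Algebra k S'] (φ : S →ₐ[k] S') (z : S ⊗[k] K) :
    φ (val F S z) = val F S' (φ.toLinearMap.rTensor K z) := by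
  rw [val, val, ← PolynomialLaw.isCompat_apply' φ z]
  induction F.toFun' S z using TensorProduct.induction_on with
  | zero => simp
  | tmul s r => simp
  | add x y hx hy => simp only [map_add, hx, hy]

include hF in
theorem val_one (S : Type u) [CommRing S] [Algebra k S] : val F S 1 = 1 := by
  rw [val, (hF.1 S).1, Algebra.TensorProduct.one_def, TensorProduct.rid_tmul, one_smul]

include hF in
theorem val_mul (S : Type u) [CommRing S] [Algebra k S] (x y : S ⊗[k] K) :
    val F S (x * y) = val F S x * val F S y := by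
  rw [val, val, val, (hF.1 S).2]
  exact map_mul (Algebra.TensorProduct.rid k k S) _ _

include hF in
theorem val_smul (S : Type u) [CommRing S] [Algebra k S] (a : S) (z : S ⊗[k] K) :
    val F S (a • z) = a ^ d * val F S z := by
  rw [val, val, hF.2 S a z]
  exact map_smul (Algebra.TensorProduct.rid k S S) (a ^ d) _

include hF in
theorem val_pow (S : Type u) [CommRing S] [Algebra k S] (z : S ⊗[k] K) (m : ℕ) :
    val F S (z ^ m) = val F S z ^ m := by
  induction m with
  | zero => rw [pow_zero, pow_zero, val_one F hF]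
  | succ m ih => rw [pow_succ, pow_succ, val_mul F hF, ih]

include hF in
theorem val_prod (S : Type u) [CommRing S] [Algebra k S] {α : Type*} (s : Finset α)
    (z : α → S ⊗[k] K) : val F S (∏ i ∈ s, z i) = ∏ i ∈ s, val F S (z i) := by
  classical
  induction s using Finset.induction_on with
  | empty => rw [Finset.prod_empty, Finset.prod_empty, val_one F hF]
  | insert a t ha ih => rw [Finset.prod_insert ha, Finset.prod_insert ha, val_mul F hF, ih]

end Val

section Coord

variable {ι : Type u} [Fintype ι] (b : Module.Basis ι k K)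

/-- Coordinates. -/
noncomputable def coord (S : Type u) [CommSemiring S] [Algebra k S] (z : S ⊗[k] K) (i : ι) : S :=
  TensorProduct.rid k S (LinearMap.lTensor S (b.coord i) z)

theorem coord_tmul (S : Type u) [CommSemiring S] [Algebra k S] (s : S) (x : K) (i : ι) :
    coord b S (s ⊗ₜ x) i = b.repr x i • s := by
  simp [coord]

theorem coord_natural {S : Type u} [CommSemiring S] [Algebra k S] {S' : Type u} [CommSemiring S']
    [Algebra k S'] (φ : S →ₐ[k] S') (z : S ⊗[k] K) (i : ι) :
    φ (coord b S z i) = coord b S' (φ.toLinearMap.rTensor K z) i := by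
  induction z using TensorProduct.induction_on with
  | zero => simp [coord]
  | tmul s r => simp [coord]
  | add x y hx hy =>
    simp only [coord, map_add] at hx hy ⊢
    rw [hx, hy]

theorem sum_coord (S : Type u) [CommSemiring S] [Algebra k S] (z : S ⊗[k] K) :
    ∑ i, coord b S z i ⊗ₜ[k] b i = z := by
  induction z using TensorProduct.induction_on with
  | zero => simp [coord]
  | tmul s x =>
    simp only [coord_tmul, TensorProduct.smul_tmul]
    rw [← TensorProduct.tmul_sum, b.sum_repr]
  | add x y hx hy =>
    simp only [coord, map_add, TensorProduct.add_tmul, Finset.sum_add_distrib] at hx hy ⊢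
    rw [hx, hy]

/-- The polynomial of a law. -/
noncomputable def poly (F : K →ₚₗ[k] k) : MvPolynomial ι k :=
  val F (MvPolynomial ι k) (∑ i, MvPolynomial.X i ⊗ₜ[k] b i)

omit [Fintype ι] in
theorem rTensor_sum {S : Type u} [CommSemiring S] [Algebra k S] {S' : Type u} [CommSemiring S']
    [Algebra k S'] (φ : S →ₐ[k] S') (s : Finset ι) (c : ι → S) :
    φ.toLinearMap.rTensor K (∑ i ∈ s, c i ⊗ₜ[k] b i) = ∑ i ∈ s, φ (c i) ⊗ₜ[k] b i := by
  simp

theorem val_eq_aeval (F : K →ₚₗ[k] k)
    (S : Type u) [CommSemiring S] [Algebra k S] (z : S ⊗[k] K) :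
    val F S z = MvPolynomial.aeval (coord b S z) (poly b F) := by
  rw [poly, val_natural, rTensor_sum]
  simp only [MvPolynomial.aeval_X]
  rw [sum_coord b S z]

end Coord

theorem pow_sum (q r : ℕ) [ExpChar k q] {A : Type*} [CommRing A] [Algebra k A] {α : Type*}
    (s : Finset α) (f : α → A) : (∑ i ∈ s, f i) ^ q ^ r = ∑ i ∈ s, f i ^ q ^ r := by
  rcases subsingleton_or_nontrivial A with h | h
  · exact Subsingleton.elim _ _
  haveI : ExpChar A q := expChar_of_injective_algebraMap (algebraMap k A).injective q
  exact map_sum (iterateFrobenius A q r) f s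

section Geom

variable (q r : ℕ) [ExpChar k q] [FiniteDimensional k K]
  (hexp : ∀ x : K, x ^ q ^ r ∈ separableClosure k K)

/-- An algebraic closure of the base. -/
abbrev Om (k : Type u) [Field k] : Type u := AlgebraicClosure k

/-- Evaluation at an embedding. -/
noncomputable def ev (σ : K →ₐ[k] Om k) : Om k ⊗[k] K →ₐ[Om k] Om k :=
  Algebra.TensorProduct.lift (AlgHom.id (Om k) (Om k)) σ fun _ _ => Commute.all _ _

/-- The inclusion of the separable part. -/
noncomputable def incl : Om k ⊗[k] separableClosure k K →ₐ[Om k] Om k ⊗[k] K :=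
  Algebra.TensorProduct.map (AlgHom.id (Om k) (Om k)) (separableClosure k K).val

/-- All evaluations on the separable part. -/
noncomputable def evs : Om k ⊗[k] separableClosure k K →ₐ[Om k] ((K →ₐ[k] Om k) → Om k) :=
  Pi.algHom (Om k) _ fun σ => (ev σ).comp (incl (k := k) (K := K))

theorem evs_tmul (a : Om k) (x : separableClosure k K) (σ : K →ₐ[k] Om k) :
    (evs (k := k) (K := K)) (a ⊗ₜ[k] x) σ = a * σ x := by
  simp [evs, ev, incl]

theorem natCard_emb : Nat.card (K →ₐ[k] Om k) = Field.finSepDegree k K :=
  (Field.finSepDegree_eq_of_isAlgClosed k K (Om k)).symm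

theorem finrank_sep : Module.finrank k (separableClosure k K) = Field.finSepDegree k K := by
  rw [Field.finSepDegree_eq]
  rfl

include hexp in
theorem restrict_inj : Function.Injective
    fun σ : K →ₐ[k] Om k => σ.comp (separableClosure k K).val := by
  intro σ τ h
  haveI : ExpChar (Om k) q := expChar_of_injective_algebraMap (algebraMap k _).injective q
  refine AlgHom.ext fun x => ?_
  apply iterateFrobenius_inj (Om k) q r
  simp only [iterateFrobenius_def, ← map_pow]
  exact AlgHom.congr_fun h ⟨x ^ q ^ r, hexp x⟩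

include hexp in
theorem evs_bijective : Function.Bijective (evs (k := k) (K := K)) := by
  classical
  have hsurj : Function.Surjective (evs (k := k) (K := K)) := by
    have hδ : ∀ σ : K →ₐ[k] Om k, ∃ w, (evs (k := k) (K := K)) w = Pi.single σ (1 : Om k) := by
      intro σ
      have : ∀ τ, τ ≠ σ → ∃ w, evs (k := k) (K := K) w σ = 1 ∧ (evs (k := k) (K := K)) w τ = 0 := by
        intro τ hτ
        obtain ⟨x, hx⟩ : ∃ x : separableClosure k K, σ x ≠ τ x := by
          by_contra hcon
          push Not at hcon
          exact hτ (restrict_inj q r hexp (AlgHom.ext fun x => (hcon x).symm))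
        refine ⟨(σ x - τ x)⁻¹ • ((1 : Om k) ⊗ₜ[k] x - τ x • 1), ?_, ?_⟩
        · rw [map_smul, map_sub, map_smul, map_one, Pi.smul_apply, Pi.sub_apply, evs_tmul,
            Pi.smul_apply, Pi.one_apply, one_mul, smul_eq_mul, smul_eq_mul, mul_one,
            inv_mul_cancel₀ (sub_ne_zero.mpr hx)]
        · rw [map_smul, map_sub, map_smul, map_one, Pi.smul_apply, Pi.sub_apply, evs_tmul,
            Pi.smul_apply, Pi.one_apply, one_mul, smul_eq_mul, smul_eq_mul, mul_one, sub_self,
            mul_zero]
      choose w hw1 hw2 using this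
      refine ⟨∏ τ : {τ // τ ≠ σ}, w τ.1 τ.2, funext fun ρ => ?_⟩
      rw [map_prod, Finset.prod_apply]
      by_cases hρ : ρ = σ
      · subst hρ
        rw [Pi.single_eq_same]
        exact Finset.prod_eq_one fun τ _ => hw1 τ.1 τ.2
      · rw [Pi.single_eq_of_ne hρ]
        exact Finset.prod_eq_zero (Finset.mem_univ ⟨ρ, hρ⟩) (hw2 ρ hρ)
    choose w hw using hδ
    intro f
    refine ⟨∑ σ, f σ • w σ, funext fun ρ => ?_⟩
    simp [hw, Pi.single_apply]
  refine ⟨?_, hsurj⟩
  have h := LinearMap.injective_iff_surjective_of_finrank_eq_finrank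
    (f := (evs (k := k) (K := K)).toLinearMap) (by
      rw [Module.finrank_baseChange, Module.finrank_pi, finrank_sep, ← natCard_emb,
        Nat.card_eq_fintype_card])
  exact h.mpr hsurj

theorem emb_transitive (σ σ' : K →ₐ[k] Om k) : ∃ τ : Om k ≃ₐ[k] Om k, ∀ x, τ (σ x) = σ' x := by
  let φ : σ.fieldRange →ₐ[k] σ'.fieldRange :=
    ((AlgEquiv.ofInjectiveField σ).symm.trans (AlgEquiv.ofInjectiveField σ')).toAlgHom
  let L := φ.liftNormal (Om k)
  have hL : Function.Bijective L := Algebra.IsAlgebraic.algHom_bijective L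
  refine ⟨AlgEquiv.ofBijective L hL, fun x => ?_⟩
  have := φ.liftNormal_commutes (Om k) (AlgEquiv.ofInjectiveField σ x)
  rw [show φ (AlgEquiv.ofInjectiveField σ x) = AlgEquiv.ofInjectiveField σ' x from
    congrArg (AlgEquiv.ofInjectiveField σ') ((AlgEquiv.ofInjectiveField σ).symm_apply_apply x)] at this
  exact this

end Geom

section Mono

variable {Ω : Type u} [Field Ω] [Infinite Ω]

theorem exists_monomial (G : Polynomial Ω) (h1 : G.eval 1 = 1)
    (hm : ∀ s t : Ω, G.eval (s * t) = G.eval s * G.eval t) :
    ∃ a : ℕ, ∀ t, G.eval t = t ^ a := by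
  obtain ⟨i, hi⟩ : ∃ i, G.coeff i ≠ 0 := by
    by_contra hcon
    push Not at hcon
    rw [Polynomial.ext (p := G) (q := 0) (by simpa using hcon)] at h1
    simp at h1
  refine ⟨i, fun t => ?_⟩
  have hG : G.comp (Polynomial.C t * Polynomial.X) = Polynomial.C (G.eval t) * G :=
    Polynomial.funext fun x => by simp [Polynomial.eval_comp, hm]
  have := congrArg (fun P : Polynomial Ω => P.coeff i) hG
  simp only [Polynomial.comp_C_mul_X_coeff, Polynomial.coeff_C_mul] at this
  rw [mul_comm] at this
  exact (mul_right_cancel₀ hi this).symm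

theorem pow_inj' {a b : ℕ} (h : ∀ t : Ω, t ^ a = t ^ b) : a = b := by
  have : (Polynomial.X : Polynomial Ω) ^ a = Polynomial.X ^ b :=
    Polynomial.funext fun x => by simpa using h x
  simpa using congrArg Polynomial.natDegree this

end Mono

section Char

variable (q r : ℕ) [ExpChar k q] [FiniteDimensional k K]
  (hexp : ∀ x : K, x ^ q ^ r ∈ separableClosure k K) (F : K →ₚₗ[k] k) {d : ℕ} (hF : IsML F d)

include hexp hF in
/-- The structure of a law over the algebraic closure. -/
theorem exists_exponent : ∃ a : ℕ, Field.finSepDegree k K * a = d ∧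
    ∀ z : Om k ⊗[k] K, val F (Om k) z = ∏ σ : K →ₐ[k] Om k, ev σ z ^ a := by
  classical
  haveI : ExpChar (Om k) q := expChar_of_injective_algebraMap (algebraMap k _).injective q
  obtain ⟨Φinv, hΦ⟩ : ∃ g : ((K →ₐ[k] Om k) → Om k) → Om k ⊗[k] separableClosure k K,
      ∀ v, (evs (k := k) (K := K)) (g v) = v :=
    ⟨Function.surjInv (evs_bijective q r hexp).2, Function.surjInv_eq _⟩
  let ι := Module.Free.ChooseBasisIndex k K
  let b : Module.Basis ι k K := Module.Free.chooseBasis k K
  let f := val F (Om k) (K := K)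
  -- the value on the idempotent line
  have hline : ∀ σ : K →ₐ[k] Om k, ∃ a : ℕ, ∀ t : Om k,
      f ((incl (k := k) (K := K)) (Φinv (Function.update 1 σ t))) = t ^ a := by
    intro σ
    set w₁ := (incl (k := k) (K := K)) (Φinv (Function.update 1 σ 1))
    set w₀ := (incl (k := k) (K := K)) (Φinv (Function.update (1 : (K →ₐ[k] Om k) → Om k) σ 0))
    have haff : ∀ t : Om k, (incl (k := k) (K := K)) (Φinv (Function.update 1 σ t)) = w₀ + t • (w₁ - w₀) := by
      intro t
      show _ = (incl (k := k) (K := K)) _ + t • ((incl (k := k) (K := K)) _ - (incl (k := k) (K := K)) _)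
      rw [← map_sub, ← map_smul, ← map_add]
      congr 1
      apply (evs_bijective q r hexp).1
      rw [map_add, map_smul, map_sub, hΦ, hΦ, hΦ]
      funext τ
      by_cases hτ : τ = σ
      · subst hτ; simp
      · simp [Function.update_of_ne hτ]
    let G : Polynomial (Om k) := MvPolynomial.aeval
      (fun i => Polynomial.C (coord b (Om k) w₀ i) +
        Polynomial.X * Polynomial.C (coord b (Om k) (w₁ - w₀) i)) (poly b F)
    have hG : ∀ t : Om k, f ((incl (k := k) (K := K)) (Φinv (Function.update 1 σ t))) = G.eval t := by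
      intro t
      show val F (Om k) _ = _
      rw [val_eq_aeval b F, haff]
      have : G.eval t = ((Polynomial.aeval t).restrictScalars k) G := by
        simp [Polynomial.aeval_def, Polynomial.eval₂_eq_eval_map]
      rw [this, show G = MvPolynomial.aeval _ (poly b F) from rfl, MvPolynomial.comp_aeval_apply]
      congr 1
      refine congrArg (fun c => MvPolynomial.aeval c) (funext fun i => ?_)
      have hsm : ∀ (z : Om k ⊗[k] K), coord b (Om k) (t • z) i = t * coord b (Om k) z i := by
        intro z
        induction z using TensorProduct.induction_on with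
        | zero => simp [coord]
        | tmul s x => simp [coord, TensorProduct.smul_tmul']
        | add x y hx hy =>
          simp only [coord, smul_add, map_add, mul_add] at hx hy ⊢
          rw [hx, hy]
      have hadd : ∀ x y : Om k ⊗[k] K,
          coord b (Om k) (x + y) i = coord b (Om k) x i + coord b (Om k) y i := fun x y => by
        simp [coord]
      rw [hadd, hsm]
      simp
      ring
    obtain ⟨a, ha⟩ := exists_monomial G (by
        rw [← hG]
        show val F (Om k) _ = _
        rw [show (incl (k := k) (K := K)) (Φinv (Function.update 1 σ 1)) = 1 by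
          rw [show Φinv (Function.update 1 σ 1) = 1 from (evs_bijective q r hexp).1
            (by rw [hΦ, map_one]; exact Function.update_eq_self σ (1 : (K →ₐ[k] Om k) → Om k)), map_one], val_one F hF])
      fun s t => by
        rw [← hG, ← hG, ← hG]
        show val F (Om k) _ = val F (Om k) _ * val F (Om k) _
        rw [← val_mul F hF, ← map_mul]
        refine congrArg (fun w => val F (Om k) ((incl (k := k) (K := K)) w)) ((evs_bijective q r hexp).1 ?_)
        rw [map_mul, hΦ, hΦ, hΦ]
        funext τ
        by_cases hτ : τ = σ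
        · subst hτ; simp
        · simp [Function.update_of_ne hτ]
    exact ⟨a, fun t => by rw [hG, ha]⟩
  choose a ha using hline
  have hform : ∀ z : Om k ⊗[k] K, f z = ∏ σ, ev σ z ^ a σ := by
    intro z
    apply iterateFrobenius_inj (Om k) q r
    simp only [iterateFrobenius_def]
    rw [← Finset.prod_pow, show f z ^ q ^ r = f (z ^ q ^ r) from (val_pow F hF _ z _).symm]
    obtain ⟨w, hw⟩ : ∃ w, (incl (k := k) (K := K)) w = z ^ q ^ r := by
      have hz := (sum_coord b (Om k) z).symm
      refine ⟨∑ i, (coord b (Om k) z i ^ q ^ r) ⊗ₜ[k] (⟨b i ^ q ^ r, hexp _⟩ : separableClosure k K), ?_⟩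
      conv_rhs => rw [hz, pow_sum (k := k) q r]
      rw [map_sum]
      exact Finset.sum_congr rfl fun i _ => by simp [incl, Algebra.TensorProduct.tmul_pow]
    have hwp : w = ∏ σ, Φinv (Function.update 1 σ ((evs (k := k) (K := K)) w σ)) := by
      apply (evs_bijective q r hexp).1
      rw [map_prod]
      simp only [hΦ]
      funext τ
      rw [Finset.prod_apply, Finset.prod_eq_single τ]
      · simp
      · intro σ _ hσ; simp [Function.update_of_ne (Ne.symm hσ)]
      · simp
    have hfw : f ((incl (k := k) (K := K)) w) = ∏ σ, (evs (k := k) (K := K)) w σ ^ a σ := by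
      conv_lhs => rw [hwp, map_prod]
      show val F (Om k) _ = _
      rw [val_prod F hF]
      exact Finset.prod_congr rfl fun σ _ => ha σ _
    rw [← hw, hfw]
    refine Finset.prod_congr rfl fun σ _ => ?_
    rw [← pow_mul, mul_comm, pow_mul]
    congr 1
    show ev σ ((incl (k := k) (K := K)) w) = _
    rw [hw, map_pow]
  have hconst : ∀ σ σ', a σ = a σ' := by
    intro σ σ'
    obtain ⟨τ, hτ⟩ := emb_transitive σ σ'
    refine (pow_inj' (Ω := Om k) fun t => ?_).symm
    obtain ⟨t, rfl⟩ := τ.surjective t
    set z := (incl (k := k) (K := K)) (Φinv (Function.update 1 σ t))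
    have hev : ∀ ρ, ev ρ z = Function.update (1 : (K →ₐ[k] Om k) → Om k) σ t ρ := fun ρ =>
      congrFun (hΦ (Function.update 1 σ t)) ρ
    have hnat : ∀ (ρ : K →ₐ[k] Om k) (w : Om k ⊗[k] K),
        ev (τ.toAlgHom.comp ρ) (τ.toAlgHom.toLinearMap.rTensor K w) = τ (ev ρ w) := by
      intro ρ w
      induction w using TensorProduct.induction_on with
      | zero => simp
      | tmul s x => simp [ev]
      | add x y hx hy => simp only [map_add, hx, hy]
    have h1 := val_natural F τ.toAlgHom z
    rw [show val F (Om k) z = t ^ a σ from ha σ t] at h1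
    rw [show val F (Om k) (τ.toAlgHom.toLinearMap.rTensor K z) = _ from hform _] at h1
    have hσ' : σ' = τ.toAlgHom.comp σ := AlgHom.ext fun x => (hτ x).symm
    rw [Finset.prod_eq_single σ'] at h1
    · rw [hσ', hnat, hev, Function.update_self, map_pow] at h1
      rw [hσ']
      exact h1.symm
    · intro ρ _ hρ
      have : ρ = τ.toAlgHom.comp (τ.symm.toAlgHom.comp ρ) := AlgHom.ext fun x => by simp
      rw [this, hnat, hev, Function.update_of_ne, Pi.one_apply, map_one, one_pow]
      rintro h
      exact hρ (by rw [hσ', ← h]; exact this)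
    · simp
  haveI : Nonempty (K →ₐ[k] Om k) := ⟨IsAlgClosed.lift⟩
  obtain ⟨σ₀⟩ := ‹Nonempty (K →ₐ[k] Om k)›
  refine ⟨a σ₀, pow_inj' (Ω := Om k) fun t => ?_, fun z => ?_⟩
  · have h1 : f (t • 1) = t ^ d := by
      show val F (Om k) _ = _
      rw [val_smul F hF, val_one F hF, mul_one]
    rw [← h1, hform]
    simp only [map_smul, map_one, smul_eq_mul, mul_one, fun σ => hconst σ σ₀, Finset.prod_const,
      Finset.card_univ, ← Nat.card_eq_fintype_card, natCard_emb, ← pow_mul, mul_comm]
  · show f z = _
    rw [hform]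
    simp only [fun σ => hconst σ σ₀]

end Char

section Main

variable (q r : ℕ) [ExpChar k q] [FiniteDimensional k K]
  (hexp : ∀ x : K, x ^ q ^ r ∈ separableClosure k K) {d : ℕ}

include hexp in
theorem unique (F F' : K →ₚₗ[k] k) (hF : IsML F d) (hF' : IsML F' d) : F = F' := by
  obtain ⟨a, ha, hval⟩ := exists_exponent q r hexp F hF
  obtain ⟨a', ha', hval'⟩ := exists_exponent q r hexp F' hF'
  haveI : Nonempty (K →ₐ[k] Om k) := ⟨IsAlgClosed.lift⟩
  have hn : 0 < Field.finSepDegree k K := by rw [← natCard_emb]; exact Nat.card_pos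
  obtain rfl : a = a' := Nat.eq_of_mul_eq_mul_left hn (ha.trans ha'.symm)
  let b : Module.Basis (Module.Free.ChooseBasisIndex k K) k K := Module.Free.chooseBasis k K
  have hP : poly b F = poly b F' := by
    apply MvPolynomial.map_injective _ (algebraMap k (Om k)).injective
    refine MvPolynomial.funext fun c => ?_
    have h : ∀ G : K →ₚₗ[k] k, MvPolynomial.eval c (MvPolynomial.map (algebraMap k (Om k))
        (poly b G)) = val G (Om k) (∑ i, c i ⊗ₜ[k] b i) := by
      intro G
      rw [MvPolynomial.eval_map, ← MvPolynomial.aeval_def, poly, val_natural, rTensor_sum]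
      simp
    rw [h, h, hval, hval']
  refine PolynomialLaw.ext (funext fun S => funext fun i₁ => funext fun i₂ => funext fun z => ?_)
  apply (TensorProduct.rid k S).injective
  show val F S z = val F' S z
  rw [val_eq_aeval b, val_eq_aeval b, hP]

omit [FiniteDimensional k K] in
theorem coeff_prod_one {R : Type*} [CommRing R] {α : Type*} (s : Finset α) (p : α → Polynomial R)
    (h : ∀ i, (p i).coeff 0 = 1) :
    (∏ i ∈ s, p i).coeff 0 = 1 ∧ (∏ i ∈ s, p i).coeff 1 = ∑ i ∈ s, (p i).coeff 1 := by
  classical
  induction s using Finset.induction_on with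
  | empty => simp [Polynomial.coeff_one]
  | insert a t ha ih =>
    rw [Finset.prod_insert ha, Finset.sum_insert ha, Polynomial.mul_coeff_zero, ih.1, h a, one_mul]
    refine ⟨rfl, ?_⟩
    rw [Polynomial.coeff_mul,
      Finset.Nat.sum_antidiagonal_eq_sum_range_succ (fun i j => (p a).coeff i * (∏ i ∈ t, p i).coeff j)]
    simp [Finset.sum_range_succ, ih.1, ih.2, h a]
    ring

include hexp in
theorem dvd_of_exists (hq : q.Prime) (F : K →ₚₗ[k] k) (hF : IsML F d)
    (hmin : ∀ v : ℕ, v < r → ∃ x : K, x ^ q ^ v ∉ separableClosure k K) :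
    Field.finSepDegree k K * q ^ r ∣ d := by
  classical
  obtain ⟨a, ha, hval⟩ := exists_exponent q r hexp F hF
  rw [← ha]
  refine Nat.mul_dvd_mul_left _ ?_
  rcases Nat.eq_zero_or_pos a with rfl | hapos
  · exact dvd_zero _
  obtain ⟨v, m, hm, rfl⟩ := Nat.exists_eq_pow_mul_and_not_dvd hapos.ne' q hq.ne_one
  by_contra hcon
  have hv : v < r := not_le.mp fun h => hcon ((pow_dvd_pow q h).trans (Dvd.intro m rfl))
  obtain ⟨x, hx⟩ := hmin v hv
  apply hx
  haveI hchar : CharP k q := by
    cases ‹ExpChar k q› with
    | zero => exact absurd hq Nat.not_prime_one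
    | prime _ => assumption
  haveI : CharP (Om k) q := charP_of_injective_algebraMap (algebraMap k (Om k)).injective q
  haveI : ExpChar (Om k) q := ExpChar.prime hq
  set Q := q ^ v with hQ
  have hm0 : (m : Om k) ≠ 0 := fun h => hm ((CharP.cast_eq_zero_iff (Om k) q m).mp h)
  have key : ∀ y : K, ∃ c : k, algebraMap k (Om k) c = ∑ σ : K →ₐ[k] Om k, σ (y ^ Q) := by
    intro y
    let S := Polynomial k
    let zk : S ⊗[k] K := (1 : S) ⊗ₜ (1 : K) + Polynomial.X ⊗ₜ y
    let G : Polynomial k := val F S zk
    let p : (K →ₐ[k] Om k) → Polynomial (Om k) :=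
      fun σ => 1 + Polynomial.C (σ (y ^ Q)) * Polynomial.X
    have hG : G.map (algebraMap k (Om k)) = Polynomial.expand (Om k) Q ((∏ σ, p σ) ^ m) := by
      refine Polynomial.funext fun t => ?_
      rw [Polynomial.eval_map, ← Polynomial.aeval_def]
      show Polynomial.aeval t (val F S zk) = _
      rw [val_natural, hval, Polynomial.expand_eval, Polynomial.eval_pow, Polynomial.eval_prod,
        ← Finset.prod_pow]
      refine Finset.prod_congr rfl fun σ _ => ?_
      simp only [zk, p, map_add, LinearMap.rTensor_tmul, AlgHom.toLinearMap_apply, map_one,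
        Polynomial.aeval_X, Polynomial.eval_add, Polynomial.eval_one, Polynomial.eval_mul,
        Polynomial.eval_C, Polynomial.eval_X]
      rw [show ev σ ((1 : Om k) ⊗ₜ[k] (1 : K)) = 1 by simp [ev],
        show ev σ (t ⊗ₜ[k] y) = t * σ y by simp [ev], pow_mul, hQ, add_pow_expChar_pow, one_pow,
        map_pow, mul_pow]
      ring
    have hQ0 : 0 < Q := pow_pos hq.pos v
    have hc := congrArg (fun P : Polynomial (Om k) => P.coeff (1 * Q)) hG
    simp only [Polynomial.coeff_map] at hc
    rw [Polynomial.coeff_expand_mul hQ0] at hc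
    have hp : ∀ σ, (p σ).coeff 0 = 1 := fun σ => by simp [p]
    have hprod := coeff_prod_one Finset.univ p hp
    have hpow := coeff_prod_one (Finset.range m) (fun _ => ∏ σ, p σ) fun _ => hprod.1
    rw [Finset.prod_const, Finset.card_range] at hpow
    rw [hpow.2, Finset.sum_const, Finset.card_range, hprod.2, nsmul_eq_mul] at hc
    have hp1 : ∀ σ, (p σ).coeff 1 = σ (y ^ Q) := fun σ => by
      simp only [p, Polynomial.coeff_add, Polynomial.coeff_C_mul_X, Polynomial.coeff_one]
      simp
    simp only [hp1] at hc
    refine ⟨(m : k)⁻¹ * G.coeff (1 * Q), ?_⟩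
    rw [map_mul, map_inv₀, map_natCast, hc, ← mul_assoc, inv_mul_cancel₀ hm0, one_mul]
  -- the functional `z ↦ ∑ σ (x ^ Q z)`
  let T : Submodule k (separableClosure k K) :=
    (LinearMap.range (Algebra.linearMap k (Om k))).comap
      (∑ σ : K →ₐ[k] Om k, σ.toLinearMap ∘ₗ LinearMap.mulLeft k (x ^ Q) ∘ₗ
        (separableClosure k K).val.toLinearMap)
  have hTapp : ∀ z : separableClosure k K, z ∈ T ↔
      ∑ σ : K →ₐ[k] Om k, σ (x ^ Q * z) ∈ Set.range (algebraMap k (Om k)) := by
    intro z
    simp [T]
  have hT : T = ⊤ := by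
    rw [eq_top_iff, ← Field.span_map_pow_expChar_pow_eq_top_of_isSeparable q v
      (Module.finBasis k (separableClosure k K)).span_eq, Submodule.span_le]
    rintro _ ⟨i, rfl⟩
    rw [SetLike.mem_coe, hTapp]
    obtain ⟨c, hc⟩ := key (x * (Module.finBasis k (separableClosure k K) i : K))
    refine ⟨c, hc.trans ?_⟩
    simp [mul_pow, Q]
  have hT' : ∀ z : separableClosure k K, ∃ c : k,
      algebraMap k (Om k) c = ∑ σ : K →ₐ[k] Om k, σ (x ^ Q * z) :=
    fun z => (hTapp z).mp (hT ▸ Submodule.mem_top)
  choose L hL using hT'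
  let Ll : Module.Dual k (separableClosure k K) :=
    { toFun := L
      map_add' := fun z z' => (algebraMap k (Om k)).injective (by
        rw [map_add, hL, hL, hL, ← Finset.sum_add_distrib]
        simp [mul_add])
      map_smul' := fun c z => (algebraMap k (Om k)).injective (by
        rw [smul_eq_mul, RingHom.id_apply, map_mul, hL, hL, Finset.mul_sum]
        refine Finset.sum_congr rfl fun σ _ => ?_
        simp [Algebra.smul_def]
        ring) }
  let y' := ((Algebra.traceForm k (separableClosure k K)).toDual
    (traceForm_nondegenerate k (separableClosure k K))).symm Ll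
  have hy' : ∀ z, L z = Algebra.trace k (separableClosure k K) (y' * z) := fun z =>
    (LinearMap.BilinForm.apply_toDual_symm_apply
      (hB := traceForm_nondegenerate k (separableClosure k K)) Ll z).symm
  let res : (K →ₐ[k] Om k) → (separableClosure k K →ₐ[k] Om k) :=
    fun σ => σ.comp (separableClosure k K).val
  have hres : Function.Bijective res := by
    refine (Fintype.bijective_iff_injective_and_card res).mpr ⟨restrict_inj q r hexp, ?_⟩
    rw [AlgHom.card k (separableClosure k K) (Om k), ← Nat.card_eq_fintype_card, natCard_emb,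
      finrank_sep]
  have hzero : ∀ z : separableClosure k K,
      ∑ σ : K →ₐ[k] Om k, (σ (x ^ Q) - σ y') * σ z = 0 := by
    intro z
    have h1 := hL z
    rw [hy'] at h1
    replace h1 := (trace_eq_sum_embeddings (K := k) (L := separableClosure k K) (Om k)
      (x := y' * z)).symm.trans h1
    rw [← Equiv.sum_comp (Equiv.ofBijective res hres)] at h1
    simp only [sub_mul, Finset.sum_sub_distrib, sub_eq_zero, ← map_mul]
    exact h1.symm
  have hall : ∀ σ : K →ₐ[k] Om k, σ (x ^ Q) = σ y' := by
    intro σ
    obtain ⟨w, hw⟩ := (evs_bijective q r hexp).2 (Pi.single σ 1)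
    have : ∀ w : Om k ⊗[k] separableClosure k K,
        ∑ τ : K →ₐ[k] Om k, (τ (x ^ Q) - τ y') * (evs (k := k) (K := K)) w τ = 0 := by
      intro w
      induction w using TensorProduct.induction_on with
      | zero => simp
      | tmul c z =>
        simp only [evs_tmul, ← mul_assoc, mul_comm _ c]
        simp only [mul_assoc, ← Finset.mul_sum, hzero, mul_zero]
      | add w w' hw hw' =>
        simp only [map_add, Pi.add_apply, mul_add, Finset.sum_add_distrib, hw, hw', add_zero]
    have h := this w
    rw [hw, Finset.sum_eq_single σ (fun τ _ hτ => by simp [hτ]) (by simp)] at h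
    simpa [sub_eq_zero] using h
  obtain ⟨σ⟩ : Nonempty (K →ₐ[k] Om k) := ⟨IsAlgClosed.lift⟩
  rw [σ.toRingHom.injective (hall σ)]
  exact y'.2

include hexp in
theorem exists_law (hd : Field.finSepDegree k K * q ^ r ∣ d) :
    ∃ F : K →ₚₗ[k] k, IsML F d := by
  classical
  obtain ⟨c, hc⟩ := hd
  let ι := Module.Free.ChooseBasisIndex k K
  let b : Module.Basis ι k K := Module.Free.chooseBasis k K
  let Ks := separableClosure k K
  let bs := Module.finBasis k Ks
  let y : ι → Ks := fun i => ⟨b i ^ q ^ r, hexp _⟩
  let n := Module.finrank k Ks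
  let Lam : ∀ (S : Type u) [CommRing S] [Algebra k S],
      S ⊗[k] Ks →ₐ[S] Matrix (Fin n) (Fin n) S := fun S _ _ =>
    Algebra.TensorProduct.lift (Algebra.ofId S _)
      ((AlgHom.mapMatrix (Algebra.ofId k S)).comp (Algebra.leftMulMatrix bs))
      fun s _ => Algebra.commutes s _
  let P : MvPolynomial ι k :=
    (Lam (MvPolynomial ι k) (∑ i, (MvPolynomial.X i ^ q ^ r) ⊗ₜ[k] y i)).det ^ c
  let F : K →ₚₗ[k] k :=
    { toFun' := fun S _ _ z => (MvPolynomial.aeval (coord b S z) P) ⊗ₜ[k] (1 : k)
      isCompat' := by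
        intro S _ _ S' _ _ φ
        funext z
        simp only [Function.comp_apply, LinearMap.rTensor_tmul, AlgHom.toLinearMap_apply]
        rw [MvPolynomial.comp_aeval_apply]
        exact congrArg (fun v => MvPolynomial.aeval v P ⊗ₜ[k] (1 : k))
          (funext fun i => coord_natural b φ z i) }
  refine ⟨F, ?_, ?_⟩ <;> intro S _ _
  all_goals
    let ψ : S ⊗[k] K → S ⊗[k] Ks := fun z => ∑ i, (coord b S z i ^ q ^ r) ⊗ₜ[k] y i
    have hval : ∀ z, F.toFun' S z = ((Lam S (ψ z)).det ^ c) ⊗ₜ[k] (1 : k) := by
      intro z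
      show MvPolynomial.aeval (coord b S z) P ⊗ₜ[k] (1 : k) = _
      congr 1
      simp only [P, map_pow]
      rw [AlgHom.map_det]
      refine congrArg (fun M => Matrix.det M ^ c) ?_
      simp only [ψ, Lam, map_sum, Algebra.TensorProduct.lift_tmul, AlgHom.mapMatrix_apply]
      ext i j
      simp [Matrix.sum_apply, Algebra.algebraMap_eq_smul_one]
    have hinj : Function.Injective
        (Algebra.TensorProduct.map (AlgHom.id S S) Ks.val) := by
      show Function.Injective (LinearMap.lTensor S Ks.val.toLinearMap)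
      exact Module.Flat.lTensor_preserves_injective_linearMap Ks.val.toLinearMap Subtype.val_injective
    have hψ : ∀ z, Algebra.TensorProduct.map (AlgHom.id S S) Ks.val (ψ z) = z ^ q ^ r := by
      intro z
      conv_rhs => rw [← sum_coord b S z, pow_sum (k := k) q r]
      rw [map_sum]
      exact Finset.sum_congr rfl fun i _ => by
        simp [y, Algebra.TensorProduct.tmul_pow, Ks]
  · refine ⟨?_, fun x x' => ?_⟩
    · have h1 : ψ 1 = 1 := hinj (by rw [hψ, one_pow, map_one])
      rw [hval, h1, map_one, Matrix.det_one, one_pow]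
      rfl
    · have h1 : ψ (x * x') = ψ x * ψ x' := hinj (by rw [map_mul, hψ, hψ, hψ, mul_pow])
      rw [hval, hval, hval, h1, map_mul, Matrix.det_mul, mul_pow,
        Algebra.TensorProduct.tmul_mul_tmul, mul_one]
  · intro a z
    have h1 : ψ (a • z) = a ^ q ^ r • ψ z := hinj (by
      rw [map_smul, hψ, hψ, smul_pow])
    rw [hval, hval, h1, map_smul, Matrix.det_smul, Fintype.card_fin, mul_pow, ← pow_mul, ← pow_mul,
      TensorProduct.smul_tmul', smul_eq_mul, hc]
    congr 3
    rw [show n = Field.finSepDegree k K from finrank_sep]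
    ring

end Main

end Groth.FieldLaw
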